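import Groth.Agent.FlatMorGeneric.Ring
import Mathlib.AlgebraicGeometry.Morphisms.Flat
import Mathlib.AlgebraicGeometry.Morphisms.FinitePresentation
import Mathlib.AlgebraicGeometry.Morphisms.QuasiCompact

/-!
# Generic flatness over reduced schemes
-/

universe u

set_option autoImplicit false
set_option backward.isDefEq.respectTransparency false

open AlgebraicGeometry CategoryTheory Limits

namespace Groth.Agent.FlatMorGeneric

variable {X S : Scheme.{u}} (f : X ⟶ S)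

theorem prop_morphismRestrict_sSup (P : MorphismProperty Scheme.{u}) [IsZariskiLocalAtTarget P]
    (𝒱 : Set S.Opens) (h : ∀ V ∈ 𝒱, P (f ∣_ V)) : P (f ∣_ sSup 𝒱) := by
  refine IsZariskiLocalAtTarget.of_iSup_eq_top (fun V : 𝒱 => (sSup 𝒱).ι ⁻¹ᵁ V.1) ?_ fun V => ?_
  · refine top_le_iff.1 fun x _ => ?_
    obtain ⟨V, hV, hx⟩ := TopologicalSpace.Opens.mem_sSup.1 x.2
    exact TopologicalSpace.Opens.mem_iSup.2 ⟨⟨V, hV⟩, hx⟩
  · refine (MorphismProperty.arrow_mk_iso_iff P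
      (morphismRestrictRestrict f _ _ ≪≫ morphismRestrictEq f ?_)).2 (h V.1 V.2)
    rw [Scheme.Hom.image_preimage_eq_opensRange_inf, Scheme.Opens.opensRange_ι,
      inf_eq_right.2 (le_sSup V.2)]

theorem prop_restrict_basicOpen (P : MorphismProperty Scheme.{u})
    {Q : ∀ {R S : Type u} [CommRing R] [CommRing S], (R →+* S) → Prop}
    [HasRingHomProperty P Q] {U : S.Opens} (hU : IsAffineOpen U) {ι : Type u} (W : ι → X.Opens)
    (hW : ∀ i, IsAffineOpen (W i)) (e : ∀ i, W i ≤ f ⁻¹ᵁ U)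
    (hcov : f ⁻¹ᵁ U ≤ ⨆ i, W i) (r : Γ(S, U))
    (H : ∀ i, Q (Localization.awayMap (f.appLE U (W i) (e i)).hom r)) :
    P (f ∣_ S.basicOpen r) := by
  let D : ι → X.Opens := fun i => X.basicOpen (f.appLE U (W i) (e i) r)
  have hD : ∀ i, D i ≤ f ⁻¹ᵁ S.basicOpen r := fun i => by
    simp only [D, Scheme.Hom.appLE, CommRingCat.comp_apply, Scheme.basicOpen_res,
      ← Scheme.preimage_basicOpen]
    exact inf_le_right
  let 𝒰 : (f ⁻¹ᵁ S.basicOpen r).toScheme.OpenCover :=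
    Scheme.Cover.mkOfCovers ι (fun i => (D i).toScheme) (fun i => X.homOfLE (hD i))
      (fun x => by
        obtain ⟨i, hi⟩ := TopologicalSpace.Opens.mem_iSup.1 (hcov (S.basicOpen_le r x.2))
        have hx : x.1 ∈ D i := by
          simp only [D, Scheme.Hom.appLE, CommRingCat.comp_apply, Scheme.basicOpen_res,
            ← Scheme.preimage_basicOpen]
          exact ⟨hi, x.2⟩
        exact ⟨i, ⟨x.1, hx⟩, Subtype.ext (by simp)⟩)
  refine IsZariskiLocalAtSource.of_openCover 𝒰 fun i => ?_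
  show P (f.resLE (S.basicOpen r) (D i) (hD i))
  have : IsAffine (S.basicOpen r).toScheme := hU.basicOpen r
  have : IsAffine (D i).toScheme := (hW i).basicOpen _
  rw [HasRingHomProperty.iff_of_isAffine (P := P)]
  have hQ : RingHom.RespectsIso Q := (HasRingHomProperty.isLocal_ringHomProperty P).respectsIso
  refine (hQ.arrow_mk_iso_iff (arrowResLEAppIso f _ _ (hD i))).2 ?_
  let := hU.isLocalization_basicOpen r
  let := (hW i).isLocalization_basicOpen (f.appLE U (W i) (e i) r)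
  show Q (f.appLE (S.basicOpen r) (X.basicOpen (f.appLE U (W i) (e i) r)) (hD i)).hom
  rw [IsAffineOpen.appLE_eq_away_map f hU (hW i) (e i) r]
  exact (hQ.isLocalization_away_iff _ _ _ r).1 (H i)

theorem exists_forall_flat_fp {A : Type u} [CommRing A] [_root_.IsReduced A] [Nontrivial A]
    {ι : Type*} {B : ι → Type u} [∀ i, CommRing (B i)] (φ : ∀ i, A →+* B i)
    (hφ : ∀ i, (φ i).FiniteType) (t : Finset ι) :
    ∃ b : A, b ≠ 0 ∧ ∀ i ∈ t, ∀ c, b ∣ c → c ≠ 0 →
      (Localization.awayMap (φ i) c).Flat ∧ (Localization.awayMap (φ i) c).FinitePresentation := by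
  classical
  induction t using Finset.induction with
  | empty => exact ⟨1, one_ne_zero, by simp⟩
  | @insert j t' _ ih =>
    obtain ⟨a, ha, hgood⟩ := ih
    let _ : Algebra A (B j) := (φ j).toAlgebra
    have : Algebra.FiniteType A (B j) := hφ j
    obtain ⟨b, hab, hb, h⟩ := exists_dvd_flat_fp (R := A) (S := B j) a ha
    refine ⟨b, hb, fun i hi c hbc hc => ?_⟩
    rcases Finset.mem_insert.1 hi with rfl | hi
    · exact h c hbc hc
    · exact hgood i hi c (hab.trans hbc) hc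

theorem exists_good_basicOpen [IsReduced S] [LocallyOfFiniteType f] [QuasiCompact f]
    {U : S.Opens} (hU : IsAffineOpen U) (hne : (U : Set S).Nonempty) :
    ∃ V : S.Opens, V ≤ U ∧ (V : Set S).Nonempty ∧
      Flat (f ∣_ V) ∧ LocallyOfFinitePresentation (f ∣_ V) := by
  classical
  have : Nonempty U := hne.to_subtype
  have hred : _root_.IsReduced Γ(S, U) := IsReduced.component_reduced U
  obtain ⟨s, hs, hsu⟩ := (isCompact_and_isOpen_iff_finite_and_eq_biUnion_affineOpens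
    (U := ((f ⁻¹ᵁ U : X.Opens) : Set X))).1
    ⟨QuasiCompact.isCompact_preimage _ U.isOpen hU.isCompact, (f ⁻¹ᵁ U).isOpen⟩
  obtain ⟨t, rfl⟩ := hs.exists_finset_coe
  let W : t → X.Opens := fun i => i.1.1
  have e : ∀ i, W i ≤ f ⁻¹ᵁ U := fun i x hx => by
    show x ∈ ((f ⁻¹ᵁ U : X.Opens) : Set X)
    rw [hsu]
    exact Set.mem_iUnion₂.2 ⟨i.1, i.2, hx⟩
  have hcov : f ⁻¹ᵁ U ≤ ⨆ i, W i := fun x hx => by
    have hx' : x ∈ ((f ⁻¹ᵁ U : X.Opens) : Set X) := hx
    rw [hsu] at hx'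
    obtain ⟨i, hi, hxi⟩ := Set.mem_iUnion₂.1 hx'
    exact TopologicalSpace.Opens.mem_iSup.2 ⟨⟨i, hi⟩, hxi⟩
  obtain ⟨b, hb, h⟩ := exists_forall_flat_fp (A := Γ(S, U)) (B := fun i : t => Γ(X, W i))
    (fun i => (f.appLE U (W i) (e i)).hom)
    (fun i => LocallyOfFiniteType.finiteType_appLE f hU i.1.2 (e i)) Finset.univ
  refine ⟨S.basicOpen b, S.basicOpen_le b, ?_,
    prop_restrict_basicOpen f @Flat hU W (fun i => i.1.2) e hcov b
      fun i => (h i (Finset.mem_univ i) b dvd_rfl hb).1,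
    prop_restrict_basicOpen f @LocallyOfFinitePresentation hU W (fun i => i.1.2) e hcov b
      fun i => (h i (Finset.mem_univ i) b dvd_rfl hb).2⟩
  rw [Set.nonempty_iff_ne_empty]
  intro h'
  exact hb ((basicOpen_eq_bot_iff b).1 (SetLike.coe_injective (by simpa using h')))

/-- **Generic flatness** over a reduced base. -/
theorem exists_dense_flat_lfp [IsReduced S] [LocallyOfFiniteType f] [QuasiCompact f] :
    ∃ U : S.Opens, Dense (U : Set S) ∧ Flat (f ∣_ U) ∧ LocallyOfFinitePresentation (f ∣_ U) := by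
  let 𝒱 : Set S.Opens := {V | Flat (f ∣_ V) ∧ LocallyOfFinitePresentation (f ∣_ V)}
  refine ⟨sSup 𝒱, dense_iff_inter_open.2 fun W hW hne => ?_,
    prop_morphismRestrict_sSup f @Flat 𝒱 fun V hV => hV.1,
    prop_morphismRestrict_sSup f @LocallyOfFinitePresentation 𝒱 fun V hV => hV.2⟩
  obtain ⟨x, hx⟩ := hne
  obtain ⟨U, (hU : IsAffineOpen U), hxU, hUW⟩ :=
    TopologicalSpace.Opens.isBasis_iff_nbhd.1 S.isBasis_affineOpens (U := ⟨W, hW⟩) hx
  obtain ⟨V, hVU, ⟨y, hy⟩, hV⟩ := exists_good_basicOpen f hU ⟨x, hxU⟩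
  exact ⟨y, hUW (hVU hy), TopologicalSpace.Opens.mem_sSup.2 ⟨V, hV, hy⟩⟩

end Groth.Agent.FlatMorGeneric
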