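import Groth.Agent.FlatMorDim.Generic
import Groth.Agent.EGA43.FibDepth.Components

/-!
Spreading out fibre properties with constructible loci from the generic point of an irreducible
base (no finite presentation hypothesis).
-/

universe u

open AlgebraicGeometry CategoryTheory Limits Topology TopologicalSpace

namespace Groth.Agent.FlatMorGeneric

set_option backward.isDefEq.respectTransparency false

/-- The structure morphism of a fibre does not change under base change along a preimmersion. -/
theorem prop_fiberToSpec_iff_of_pullback (P : MorphismProperty Scheme.{u}) [P.RespectsIso]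
    {X X' Y Y' : Scheme.{u}} {iX : X ⟶ X'} {iY : Y ⟶ Y'} {f : X ⟶ Y}
    {f' : X' ⟶ Y'} (hc : IsPullback iX f f' iY) [IsPreimmersion iY] (y : Y) :
    P (f.fiberToSpecResidueField y) ↔ P (f'.fiberToSpecResidueField (iY y)) := by
  have := FlatMorThick.isIso_residueFieldMap iY y
  let e := Spec.map (iY.residueFieldMap y)
  have h1 := (IsPullback.of_hasPullback f (Y.fromSpecResidueField y)).paste_horiz hc
  have h2 : IsPullback (pullback.fst f (Y.fromSpecResidueField y) ≫ iX)
      (pullback.snd f (Y.fromSpecResidueField y) ≫ e) f' (Y'.fromSpecResidueField (iY y)) := by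
    refine h1.of_iso (Iso.refl _) (Iso.refl _) (asIso e) (Iso.refl _) ?_ ?_ ?_ ?_
    · simp
    · simp [e]
    · simp
    · simp [e, Scheme.Hom.SpecMap_residueFieldMap_fromSpecResidueField]
  refine P.arrow_mk_iso_iff (Arrow.isoMk h2.isoPullback (asIso e) ?_)
  exact h2.isoPullback_hom_snd

/-- A fibre property with locally constructible locus is constant near the generic point. -/
theorem exists_opens_forall_iff (P : MorphismProperty Scheme.{u}) [P.RespectsIso]
    (hP : ∀ {X Y : Scheme.{u}} (f : X ⟶ Y) [LocallyOfFinitePresentation f] [QuasiCompact f],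
      IsLocallyConstructible {y : Y | P (f.fiberToSpecResidueField y)})
    {X Y : Scheme.{u}} (f : X ⟶ Y) [IrreducibleSpace ↑Y] [LocallyOfFiniteType f] [QuasiCompact f] :
    ∃ V : Y.Opens, (V : Set ↑Y).Nonempty ∧ ∀ y ∈ V,
      (P (f.fiberToSpecResidueField y) ↔ P (f.fiberToSpecResidueField (genericPoint ↑Y))) := by
  let i := Y.nilradical.subschemeι
  have hred : IsReduced Y.nilradical.subscheme := by
    rw [← Scheme.IdealSheafData.vanishingIdeal_top]
    exact Props12.isReduced_subscheme_vanishingIdeal _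
  have hs : Surjective i := ⟨Set.range_eq_univ.1 (by
    rw [Scheme.IdealSheafData.range_subschemeι, Scheme.support_nilradical]; rfl)⟩
  have hio := FlatMorThick.universallyOpen_of_thickening i
  let g := pullback.snd f i
  have : LocallyOfFiniteType g := MorphismProperty.pullback_snd _ _ inferInstance
  have : QuasiCompact g := MorphismProperty.pullback_snd _ _ inferInstance
  obtain ⟨η, hη⟩ := i.surjective (genericPoint ↑Y)
  have hgen : ∀ z, η ⤳ z := fun z => by
    rw [← i.isClosedEmbedding.isEmbedding.isInducing.specializes_iff, hη]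
    exact genericPoint_specializes _
  obtain ⟨W, hWd, hflat, hlfp⟩ := exists_dense_flat_lfp g
  have : Nonempty Y.nilradical.subscheme := ⟨η⟩
  obtain ⟨z, hz⟩ := hWd.nonempty
  have hηW : η ∈ W := (hgen z).mem_open W.isOpen hz
  have hd : ∀ w : W.toScheme, P ((g ∣_ W).fiberToSpecResidueField w) ↔
      P (f.fiberToSpecResidueField (i (W.ι w))) := fun w =>
    (prop_fiberToSpec_iff_of_pullback P (isPullback_morphismRestrict g W).flip w).trans
      (prop_fiberToSpec_iff_of_pullback P (IsPullback.of_hasPullback f i) (W.ι w))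
  haveI := hlfp
  haveI : QuasiCompact (g ∣_ W) :=
    IsZariskiLocalAtTarget.restrict (P := @QuasiCompact.{u}) (inferInstance : QuasiCompact g) W
  let w₀ : W.toScheme := ⟨η, hηW⟩
  have hgenW : ∀ w : W.toScheme, w₀ ⤳ w := fun w => by
    rw [← W.ι.isOpenEmbedding.isEmbedding.isInducing.specializes_iff]
    exact hgen _
  obtain ⟨A, hA, hwA, -⟩ := exists_isAffineOpen_mem_and_subset (x := w₀) (U := ⊤) trivial
  haveI : IsAffine A.toScheme := hA
  let E : Set W.toScheme := {w | P ((g ∣_ W).fiberToSpecResidueField w) ↔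
    P ((g ∣_ W).fiberToSpecResidueField w₀)}
  have hE : IsLocallyConstructible E := by
    by_cases hw₀ : P ((g ∣_ W).fiberToSpecResidueField w₀)
    · simp only [E, hw₀, iff_true]
      exact hP (g ∣_ W)
    · simp only [E, hw₀, iff_false]
      exact EGA43.Cons.isLocallyConstructible_compl (hP (g ∣_ W))
  have hEA : IsConstructible (hA.fromSpec ⁻¹' E) :=
    (hE.preimage_of_isOpenEmbedding hA.fromSpec.isOpenEmbedding).isConstructible
  obtain ⟨p, hp⟩ : w₀ ∈ Set.range hA.fromSpec := by rw [hA.range_fromSpec]; exact hwA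
  have hpi : p ∈ interior (hA.fromSpec ⁻¹' E) := by
    refine EGA43.FibDepth.mem_interior_of_isConstructible hEA fun p' hp' => ?_
    have h1 : hA.fromSpec p' ⤳ w₀ :=
      hp ▸ ((PrimeSpectrum.le_iff_specializes p' p).1 hp').map hA.fromSpec.continuous
    show hA.fromSpec p' ∈ E
    rw [(h1.antisymm (hgenW _)).eq]
    exact Iff.rfl
  refine ⟨⟨i '' (W.ι '' (hA.fromSpec '' interior (hA.fromSpec ⁻¹' E))),
    i.isOpenMap _ (W.ι.isOpenEmbedding.isOpenMap _ (hA.fromSpec.isOpenEmbedding.isOpenMap _
      isOpen_interior))⟩, ⟨_, _, ⟨_, ⟨p, hpi, hp⟩, rfl⟩, rfl⟩, ?_⟩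
  rintro _ ⟨_, ⟨_, ⟨q, hq, rfl⟩, rfl⟩, rfl⟩
  have hq' : q ∈ hA.fromSpec ⁻¹' E := interior_subset hq
  have := (hd (hA.fromSpec q)).symm.trans ((hq' : hA.fromSpec q ∈ E).trans (hd w₀))
  rwa [show i (W.ι w₀) = genericPoint ↑Y from hη] at this

end Groth.Agent.FlatMorGeneric
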