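import Groth.Agent.FlatMorDim.Generic
import Groth.Agent.EGA43.Cons.FibreClosureScheme
import Groth.Agent.EGA43.FibDepth.Components

/-! Density of an open in the fibres near the generic point of an irreducible base. -/

universe u

open AlgebraicGeometry CategoryTheory Limits Topology TopologicalSpace

namespace Groth.Agent.FlatMorGeneric

set_option backward.isDefEq.respectTransparency false

theorem exists_nhd_fibre_subset_closure_of_isAffine {X S : Scheme.{u}} [IsAffine X] [IsAffine S]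
    (f : X ⟶ S) [LocallyOfFinitePresentation f] (η : S) (hη : ∀ s : S, η ⤳ s) (W : X.Opens)
    (h : f ⁻¹' {η} ⊆ closure ((W : Set X) ∩ f ⁻¹' {η})) :
    ∃ O : S.Opens, η ∈ O ∧ ∀ s ∈ O, f ⁻¹' {s} ⊆ closure ((W : Set X) ∩ f ⁻¹' {s}) := by
  classical
  haveI : LocallyOfFiniteType (f.fiberToSpecResidueField η) :=
    inferInstanceAs (LocallyOfFiniteType (pullback.snd f (S.fromSpecResidueField η)))
  haveI : QuasiCompact (f.fiberToSpecResidueField η) :=
    inferInstanceAs (QuasiCompact (pullback.snd f (S.fromSpecResidueField η)))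
  haveI : IsLocallyNoetherian (f.fiber η) :=
    LocallyOfFiniteType.isLocallyNoetherian (f.fiberToSpecResidueField η)
  haveI : CompactSpace (f.fiber η) :=
    QuasiCompact.compactSpace_of_compactSpace (f.fiberToSpecResidueField η)
  haveI : IsNoetherian (f.fiber η) := {}
  have hK : IsCompact ((W : Set X) ∩ f ⁻¹' {η}) := by
    rw [← f.range_fiberι η, ← Set.image_preimage_eq_inter_range]
    exact (NoetherianSpace.isCompact _).image (f.fiberι η).continuous
  obtain ⟨W₀, hW₀W, hW₀, hKW₀⟩ : ∃ W₀ : X.Opens, W₀ ≤ W ∧ IsCompact (W₀ : Set X) ∧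
      (W : Set X) ∩ f ⁻¹' {η} ⊆ W₀ := by
    let ι := {V : X.Opens // IsAffineOpen V ∧ V ≤ W}
    obtain ⟨t, ht⟩ := hK.elim_finite_subcover (fun V : ι => (V.1 : Set X)) (fun V => V.1.isOpen)
      (fun x hx => by
        obtain ⟨V, hV, hxV, hVW⟩ := exists_isAffineOpen_mem_and_subset (x := x) (U := W) hx.1
        exact Set.mem_iUnion.2 ⟨⟨V, hV, hVW⟩, hxV⟩)
    refine ⟨⨆ V ∈ t, V.1, iSup₂_le fun V _ => V.2.2, ?_, fun x hx => ?_⟩
    · have he : ((⨆ V ∈ t, V.1 : X.Opens) : Set X) = ⋃ V ∈ t, (V.1 : Set X) := by simp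
      rw [he]
      exact t.finite_toSet.isCompact_biUnion fun V _ => V.2.1.isCompact
    · simpa using ht hx
  have hc₀ : IsLocallyConstructible (W₀ : Set X) :=
    ((hW₀.isRetrocompact W₀.isOpen).isConstructible W₀.isOpen).isLocallyConstructible
  have hcons : IsConstructible
      {s : S | Set.univ ∩ f ⁻¹' {s} ⊆ closure ((W₀ : Set X) ∩ f ⁻¹' {s})} :=
    (EGA43.Cons.isLocallyConstructible_setOf_dense f hc₀
      IsConstructible.univ.isLocallyConstructible).isConstructible
  simp only [Set.univ_inter] at hcons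
  set E := {s : S | f ⁻¹' {s} ⊆ closure ((W₀ : Set X) ∩ f ⁻¹' {s})}
  have hηE : η ∈ E := h.trans (closure_mono (Set.subset_inter hKW₀ Set.inter_subset_right))
  let e := S.isoSpec.inv
  obtain ⟨p, hp⟩ := e.surjective η
  have hpi : p ∈ interior (e ⁻¹' E) := by
    refine EGA43.FibDepth.mem_interior_of_isConstructible
      (hcons.preimage_of_isOpenEmbedding e.isOpenEmbedding) fun p' hp' => ?_
    have h1 : e p' ⤳ η := hp ▸ ((PrimeSpectrum.le_iff_specializes p' p).1 hp').map e.continuous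
    show e p' ∈ E
    rwa [(h1.antisymm (hη _)).eq]
  refine ⟨⟨e '' interior (e ⁻¹' E), e.isOpenEmbedding.isOpenMap _ isOpen_interior⟩,
    ⟨p, hpi, hp⟩, ?_⟩
  rintro _ ⟨p', hp', rfl⟩
  have hp'' : p' ∈ e ⁻¹' E := interior_subset hp'
  exact (hp'' : e p' ∈ E).trans
    (closure_mono (Set.inter_subset_inter_left _ hW₀W))

/-- An open dense in the generic fibre is dense in the nearby fibres. -/
theorem exists_opens_forall_fibre_subset_closure {X Y : Scheme.{u}} (f : X ⟶ Y)
    [IrreducibleSpace ↑Y] [LocallyOfFiniteType f] [QuasiCompact f] (W : X.Opens)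
    (h : f ⁻¹' {genericPoint ↑Y} ⊆ closure ((W : Set X) ∩ f ⁻¹' {genericPoint ↑Y})) :
    ∃ V : Y.Opens, (V : Set ↑Y).Nonempty ∧
      ∀ y ∈ V, f ⁻¹' {y} ⊆ closure ((W : Set X) ∩ f ⁻¹' {y}) := by
  classical
  let i := Y.nilradical.subschemeι
  have hred : IsReduced Y.nilradical.subscheme := by
    rw [← Scheme.IdealSheafData.vanishingIdeal_top]
    exact Props12.isReduced_subscheme_vanishingIdeal _
  have hs : Surjective i := ⟨Set.range_eq_univ.1 (by
    rw [Scheme.IdealSheafData.range_subschemeι, Scheme.support_nilradical]; rfl)⟩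
  have hio := FlatMorThick.universallyOpen_of_thickening i
  let g := pullback.snd f i
  let a := pullback.fst f i
  have : LocallyOfFiniteType g := MorphismProperty.pullback_snd _ _ inferInstance
  have : QuasiCompact g := MorphismProperty.pullback_snd _ _ inferInstance
  have hsa : Surjective a := MorphismProperty.pullback_fst _ _ hs
  obtain ⟨η, hη⟩ := i.surjective (genericPoint ↑Y)
  have hgen : ∀ z, η ⤳ z := fun z => by
    rw [← i.isClosedEmbedding.isEmbedding.isInducing.specializes_iff, hη]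
    exact genericPoint_specializes _
  obtain ⟨W₁, hWd, hflat, hlfp⟩ := exists_dense_flat_lfp g
  have : Nonempty Y.nilradical.subscheme := ⟨η⟩
  obtain ⟨w, hw⟩ := hWd.nonempty
  have hηW : η ∈ W₁ := (hgen w).mem_open W₁.isOpen hw
  obtain ⟨V₁, hV₁, hηV, hVW⟩ := exists_isAffineOpen_mem_and_subset (x := η) (U := W₁) hηW
  haveI hV₁' : IsAffine V₁.toScheme := hV₁
  have hgV : IsCompact ((g ⁻¹ᵁ V₁ : Scheme.Opens _) : Set ↑(pullback f i)) :=
    QuasiCompact.isCompact_preimage _ V₁.isOpen hV₁.isCompact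
  obtain ⟨s, hs', hsu⟩ := (isCompact_and_isOpen_iff_finite_and_eq_biUnion_affineOpens
    (U := ((g ⁻¹ᵁ V₁ : Scheme.Opens _) : Set ↑(pullback f i)))).1 ⟨hgV, (g ⁻¹ᵁ V₁).isOpen⟩
  haveI := hs'.to_subtype
  have hle : ∀ k : s, (k.1.1 : Scheme.Opens _) ≤ g ⁻¹ᵁ V₁ := fun k x hx => by
    show x ∈ ((g ⁻¹ᵁ V₁ : Scheme.Opens _) : Set ↑(pullback f i))
    rw [hsu]
    exact Set.mem_iUnion₂.2 ⟨k.1, k.2, hx⟩
  have haopen : IsOpenMap a := by
    haveI : UniversallyOpen a := MorphismProperty.pullback_fst _ _ hio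
    exact a.isOpenMap
  have key : ∀ k : s, ∃ O : V₁.toScheme.Opens, ⟨η, hηV⟩ ∈ O ∧ ∀ v ∈ O, ∀ x, x ∈ k.1.1 →
      g x = v.1 → a x ∈ closure ((W : Set X) ∩ f ⁻¹' {f (a x)}) := by
    intro k
    haveI : IsAffine k.1.1.toScheme := k.1.2
    let gk := g.resLE V₁ k.1.1 (hle k)
    haveI : LocallyOfFinitePresentation gk := by
      haveI := hlfp
      haveI hVlfp : LocallyOfFinitePresentation (g ∣_ V₁) := by
        have e1 := morphismRestrictRestrict g W₁ (W₁.ι ⁻¹ᵁ V₁)
        have e2 : W₁.ι ''ᵁ W₁.ι ⁻¹ᵁ V₁ = V₁ := by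
          rw [Scheme.Hom.image_preimage_eq_opensRange_inf, Scheme.Opens.opensRange_ι]
          exact inf_eq_right.2 (fun z hz => hVW hz)
        refine (MorphismProperty.arrow_mk_iso_iff @LocallyOfFinitePresentation.{u}
          (e1 ≪≫ morphismRestrictEq g e2)).1 ?_
        exact IsZariskiLocalAtTarget.restrict hlfp _
      have : gk = (pullback f i).homOfLE (hle k) ≫ g ∣_ V₁ := by
        rw [← cancel_mono V₁.ι, Category.assoc, morphismRestrict_ι, Scheme.Hom.resLE_comp_ι,
          ← Category.assoc, Scheme.homOfLE_ι]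
      rw [this]
      infer_instance
    obtain ⟨O, hO, hO'⟩ := exists_nhd_fibre_subset_closure_of_isAffine gk ⟨η, hηV⟩
      (fun v => by
        rw [← V₁.ι.isOpenEmbedding.isEmbedding.isInducing.specializes_iff]
        exact hgen _) (k.1.1.ι ⁻¹ᵁ (a ⁻¹ᵁ W)) (fun x hx => by
        -- transport the hypothesis to the piece
        have hx' : g x.1 = η := by
          have := congrArg Subtype.val (Set.mem_singleton_iff.1 hx)
          rwa [Scheme.Hom.coe_resLE_apply] at this
        rw [mem_closure_iff]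
        intro T hT hxT
        have hT' : IsOpen (a '' (k.1.1.ι '' T)) :=
          haopen _ (k.1.1.ι.isOpenEmbedding.isOpenMap _ hT)
        have hfx : f (a x.1) = genericPoint ↑Y := by
          show (a ≫ f) x.1 = _
          rw [show a ≫ f = g ≫ i from pullback.condition]
          show i (g x.1) = _
          rw [hx', hη]
        obtain ⟨z, ⟨_, ⟨y, hyT, rfl⟩, rfl⟩, hzW, hzf⟩ :=
          mem_closure_iff.1 (h hfx) _ hT' ⟨x.1, ⟨x, hxT, rfl⟩, rfl⟩
        refine ⟨y, hyT, hzW, Set.mem_singleton_iff.2 (Subtype.ext ?_)⟩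
        rw [Scheme.Hom.coe_resLE_apply]
        apply i.isClosedEmbedding.injective
        rw [hη, ← Set.mem_singleton_iff.1 hzf]
        show (g ≫ i) y.1 = (a ≫ f) y.1
        rw [show a ≫ f = g ≫ i from pullback.condition])
    refine ⟨O, hO, fun v hv x hx hxv => ?_⟩
    have hmem : (⟨x, hx⟩ : k.1.1.toScheme) ∈ gk ⁻¹' {v} := by
      refine Set.mem_singleton_iff.2 (Subtype.ext ?_)
      rw [Scheme.Hom.coe_resLE_apply]
      exact hxv
    refine closure_mono ?_ (image_closure_subset_closure_image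
      (a.continuous.comp k.1.1.ι.continuous) ⟨_, hO' v hv hmem, rfl⟩)
    rintro _ ⟨y, ⟨hyW, hyv⟩, rfl⟩
    refine ⟨hyW, Set.mem_singleton_iff.2 ?_⟩
    have hy' : g y.1 = v.1 := by
      have := congrArg Subtype.val (Set.mem_singleton_iff.1 hyv)
      rwa [Scheme.Hom.coe_resLE_apply] at this
    show (a ≫ f) y.1 = (a ≫ f) x
    rw [show a ≫ f = g ≫ i from pullback.condition]
    show i (g y.1) = i (g x)
    rw [hy', hxv]
  choose O hO hO' using key
  let O₀ : Set V₁.toScheme := ⋂ k, (O k : Set V₁.toScheme)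
  have hO₀ : IsOpen O₀ := isOpen_iInter_of_finite fun k => (O k).isOpen
  refine ⟨⟨i '' (V₁.ι '' O₀), i.isOpenMap _ (V₁.ι.isOpenEmbedding.isOpenMap _ hO₀)⟩,
    ⟨_, _, ⟨⟨η, hηV⟩, Set.mem_iInter.2 hO, rfl⟩, rfl⟩, ?_⟩
  rintro _ ⟨_, ⟨v, hv, rfl⟩, rfl⟩ x hx
  obtain ⟨x₁, rfl⟩ := a.surjective x
  have hg : g x₁ = v.1 := by
    apply i.isClosedEmbedding.injective
    show (g ≫ i) x₁ = _
    rw [← show a ≫ f = g ≫ i from pullback.condition]
    exact hx
  have hx₁ : x₁ ∈ ((g ⁻¹ᵁ V₁ : Scheme.Opens _) : Set ↑(pullback f i)) := by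
    show g x₁ ∈ V₁
    rw [hg]; exact v.2
  rw [hsu] at hx₁
  obtain ⟨k, hk, hxk⟩ := Set.mem_iUnion₂.1 hx₁
  have := hO' ⟨k, hk⟩ v (Set.mem_iInter.1 hv _) x₁ hxk hg
  rwa [show f (a x₁) = _ from hx] at this

end Groth.Agent.FlatMorGeneric
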