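import Groth.Agent.FlatMorDim.Generic

/-! Near the generic point of an irreducible base every point generalises to the generic fibre. -/

universe u

open AlgebraicGeometry CategoryTheory Limits

namespace Groth.Agent.FlatMorGeneric

set_option backward.isDefEq.respectTransparency false

theorem exists_opens_forall_exists_specializes {X Y : Scheme.{u}} (f : X ⟶ Y) [IrreducibleSpace ↑Y]
    [LocallyOfFiniteType f] [QuasiCompact f] :
    ∃ V : Y.Opens, (V : Set ↑Y).Nonempty ∧
      ∀ x : X, f x ∈ V → ∃ x' : X, f x' = genericPoint ↑Y ∧ x' ⤳ x := by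
  let i := Y.nilradical.subschemeι
  have hred : IsReduced Y.nilradical.subscheme := by
    rw [← Scheme.IdealSheafData.vanishingIdeal_top]
    exact Props12.isReduced_subscheme_vanishingIdeal _
  have hs : Surjective i := ⟨Set.range_eq_univ.1 (by
    rw [Scheme.IdealSheafData.range_subschemeι, Scheme.support_nilradical]; rfl)⟩
  have hio := FlatMorThick.universallyOpen_of_thickening i
  let g := pullback.snd f i
  have : LocallyOfFiniteType g := MorphismProperty.pullback_snd _ _ inferInstance
  have : QuasiCompact g := MorphismProperty.pullback_snd _ _ inferInstance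
  have : Surjective (pullback.fst f i) := MorphismProperty.pullback_fst _ _ hs
  obtain ⟨η, hη⟩ := i.surjective (genericPoint ↑Y)
  have hgen : ∀ z, η ⤳ z := fun z => by
    rw [← i.isClosedEmbedding.isEmbedding.isInducing.specializes_iff, hη]
    exact genericPoint_specializes _
  obtain ⟨W, hWd, hflat, hlfp⟩ := exists_dense_flat_lfp g
  have : Nonempty Y.nilradical.subscheme := ⟨η⟩
  refine ⟨⟨i '' (W : Set Y.nilradical.subscheme), i.isOpenMap _ W.isOpen⟩,
    hWd.nonempty.image _, ?_⟩
  rintro x ⟨w, hw, hwx⟩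
  obtain ⟨x₁, rfl⟩ := (pullback.fst f i).surjective x
  have hg : g x₁ = w := by
    apply i.isClosedEmbedding.injective
    rw [hwx]
    show (g ≫ i) x₁ = (pullback.fst f i ≫ f) x₁
    rw [pullback.condition]
  have hx₁ : x₁ ∈ g ⁻¹ᵁ W := by show g x₁ ∈ W; rw [hg]; exact hw
  have hηW : η ∈ W := (hgen _).mem_open W.isOpen hw
  have hsp : (⟨η, hηW⟩ : W.toScheme) ⤳ (g ∣_ W) ⟨x₁, hx₁⟩ := by
    rw [← W.ι.isOpenEmbedding.isEmbedding.isInducing.specializes_iff]
    exact hgen _
  obtain ⟨x', hx'sp, hx'⟩ := Flat.generalizingMap (g ∣_ W) hsp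
  refine ⟨pullback.fst f i x'.1, ?_, (hx'sp.map (g ⁻¹ᵁ W).ι.continuous).map
    (pullback.fst f i).continuous⟩
  show (pullback.fst f i ≫ f) x'.1 = _
  rw [pullback.condition]
  show i (g x'.1) = _
  rw [← morphismRestrict_base_coe g W x', hx']
  exact hη

end Groth.Agent.FlatMorGeneric
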