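import Groth.Agent.FlatMorGeneric.Fibre
import Mathlib.AlgebraicGeometry.Morphisms.UniversallyOpen

/-! Closed and open subsets meeting (or avoiding) the fibres near the generic point. -/

universe u

open AlgebraicGeometry CategoryTheory Limits

namespace Groth.Agent.FlatMorGeneric

set_option backward.isDefEq.respectTransparency false

variable {X Y : Scheme.{u}} (f : X ⟶ Y) [IrreducibleSpace ↑Y] [LocallyOfFiniteType f]
  [QuasiCompact f]

/-- An open meeting the generic fibre meets the nearby fibres. -/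
theorem exists_opens_forall_open_meets (W : X.Opens) (h : ∃ x ∈ W, f x = genericPoint ↑Y) :
    ∃ V : Y.Opens, (V : Set ↑Y).Nonempty ∧ ∀ y ∈ V, ∃ x ∈ W, f x = y := by
  let i := Y.nilradical.subschemeι
  have hred : IsReduced Y.nilradical.subscheme := by
    rw [← Scheme.IdealSheafData.vanishingIdeal_top]
    exact Props12.isReduced_subscheme_vanishingIdeal _
  have hs : Surjective i := ⟨Set.range_eq_univ.1 (by
    rw [Scheme.IdealSheafData.range_subschemeι, Scheme.support_nilradical]; rfl)⟩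
  have hio := FlatMorThick.universallyOpen_of_thickening i
  let g := pullback.snd f i
  let a := pullback.fst f i
  have : LocallyOfFiniteType g := MorphismProperty.pullback_snd _ _ inferInstance
  have : QuasiCompact g := MorphismProperty.pullback_snd _ _ inferInstance
  have hsa : Surjective a := MorphismProperty.pullback_fst _ _ hs
  obtain ⟨η, hη⟩ := i.surjective (genericPoint ↑Y)
  have hgen : ∀ z, η ⤳ z := fun z => by
    rw [← i.isClosedEmbedding.isEmbedding.isInducing.specializes_iff, hη]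
    exact genericPoint_specializes _
  obtain ⟨W₁, hWd, hflat, hlfp⟩ := exists_dense_flat_lfp g
  have : Nonempty Y.nilradical.subscheme := ⟨η⟩
  obtain ⟨w, hw⟩ := hWd.nonempty
  have hηW : η ∈ W₁ := (hgen w).mem_open W₁.isOpen hw
  obtain ⟨x, hxW, hx⟩ := h
  obtain ⟨x₁, rfl⟩ := a.surjective x
  have hg : g x₁ = η := by
    apply i.isClosedEmbedding.injective
    rw [hη, ← hx]
    show (g ≫ i) x₁ = (a ≫ f) x₁
    rw [show a ≫ f = g ≫ i from pullback.condition]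
  have hx₁ : x₁ ∈ g ⁻¹ᵁ W₁ := by show g x₁ ∈ W₁; rw [hg]; exact hηW
  haveI := hflat
  haveI := hlfp
  let O := (g ∣_ W₁) '' (((g ⁻¹ᵁ W₁).ι ≫ a) ⁻¹ᵁ W : Set (g ⁻¹ᵁ W₁).toScheme)
  have hO : IsOpen O := (g ∣_ W₁).isOpenMap _ (((g ⁻¹ᵁ W₁).ι ≫ a) ⁻¹ᵁ W).isOpen
  refine ⟨⟨i '' (W₁.ι '' O), i.isOpenMap _ (W₁.ι.isOpenEmbedding.isOpenMap _ hO)⟩,
    ⟨_, _, ⟨_, ⟨⟨x₁, hx₁⟩, hxW, rfl⟩, rfl⟩, rfl⟩, ?_⟩
  rintro _ ⟨_, ⟨_, ⟨z, hz, rfl⟩, rfl⟩, rfl⟩
  refine ⟨a z.1, hz, ?_⟩
  show (a ≫ f) z.1 = ((g ∣_ W₁) ≫ W₁.ι ≫ i) z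
  rw [show a ≫ f = g ≫ i from pullback.condition, ← Category.assoc, morphismRestrict_ι]
  rfl

/-- A closed set missing the generic fibre misses the nearby fibres. -/
theorem exists_opens_forall_closed_misses {Z : Set X} (hZ : IsClosed Z)
    (h : ∀ x ∈ Z, f x ≠ genericPoint ↑Y) :
    ∃ V : Y.Opens, (V : Set ↑Y).Nonempty ∧ ∀ x ∈ Z, f x ∉ V := by
  let I := Scheme.IdealSheafData.vanishingIdeal (X := X) ⟨Z, hZ⟩
  have hr : Set.range I.subschemeι = Z := by
    rw [Scheme.IdealSheafData.range_subschemeι, Scheme.IdealSheafData.coe_support_vanishingIdeal]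
    rfl
  obtain ⟨V, hV, hV'⟩ := exists_opens_forall_exists_specializes (I.subschemeι ≫ f)
  refine ⟨V, hV, fun x hx hfx => ?_⟩
  obtain ⟨z, rfl⟩ := hr.ge hx
  obtain ⟨z', hz', -⟩ := hV' z hfx
  exact h _ (hr.le ⟨z', rfl⟩) hz'

/-- A closed set meeting the generic fibre meets the nearby fibres. -/
theorem exists_opens_forall_closed_meets {Z : Set X} (hZ : IsClosed Z)
    (h : ∃ x ∈ Z, f x = genericPoint ↑Y) :
    ∃ V : Y.Opens, (V : Set ↑Y).Nonempty ∧ ∀ y ∈ V, ∃ x ∈ Z, f x = y := by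
  let I := Scheme.IdealSheafData.vanishingIdeal (X := X) ⟨Z, hZ⟩
  have hr : Set.range I.subschemeι = Z := by
    rw [Scheme.IdealSheafData.range_subschemeι, Scheme.IdealSheafData.coe_support_vanishingIdeal]
    rfl
  obtain ⟨x, hx, hfx⟩ := h
  obtain ⟨z, rfl⟩ := hr.ge hx
  obtain ⟨V, hV, hV'⟩ := exists_opens_forall_open_meets (I.subschemeι ≫ f) ⊤ ⟨z, trivial, hfx⟩
  refine ⟨V, hV, fun y hy => ?_⟩
  obtain ⟨z, -, hz⟩ := hV' y hy
  exact ⟨_, hr.le ⟨z, rfl⟩, hz⟩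

/-- Finitely many nonempty opens of an irreducible space have a common point. -/
theorem exists_opens_le_forall {ι : Type*} [Finite ι] (V : ι → Y.Opens)
    (hV : ∀ i, (V i : Set ↑Y).Nonempty) :
    ∃ V₀ : Y.Opens, (V₀ : Set ↑Y).Nonempty ∧ ∀ i, V₀ ≤ V i := by
  refine ⟨⟨⋂ i, (V i : Set ↑Y), isOpen_iInter_of_finite fun i => (V i).isOpen⟩,
    ⟨genericPoint ↑Y, Set.mem_iInter.2 fun i => ?_⟩, fun i x hx => Set.mem_iInter.1 hx i⟩
  obtain ⟨y, hy⟩ := hV i
  exact (genericPoint_specializes y).mem_open (V i).isOpen hy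

end Groth.Agent.FlatMorGeneric
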